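import Cfsg.Agent.DicksonPSL2.Classification
import Cfsg.Agent.DicksonPSL2.Orders
import Mathlib.NumberTheory.LSeries.PrimesInAP

/-!
# Hall numbers: `PSL(2, p)` without a Hall subgroup of order `m`
-/

set_option autoImplicit false
set_option linter.style.haveILetI false
set_option linter.unusedSectionVars false

namespace CfsgLib.HallNumbers

open Matrix
open scoped MatrixGroups
open CfsgLib.DicksonPSL2 CfsgLib.SL2Trace

/-- Dickson: the subgroup orders prime to `p` of `PSL(2, p)`. -/
theorem card_cases {p : ℕ} [Fact p.Prime] (hp2 : p ≠ 2) (H : Subgroup PSL(2, ZMod p))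
    (hpH : ¬ p ∣ Nat.card H) :
    Nat.card H ∣ p - 1 ∨ Nat.card H ∣ p + 1 ∨ Nat.card H = 12 ∨ Nat.card H = 24 ∨
      Nat.card H = 60 := by
  have hp : p.Prime := Fact.out
  have hg : Nat.gcd 2 (p - 1) = 2 := by
    refine Nat.gcd_eq_left ?_
    have := hp.eq_one_or_self_of_dvd 2
    have := hp.two_le
    omega
  have hcardF : Fintype.card (ZMod p) = p := ZMod.card p
  rcases subgroup_cases p H with h | ⟨x, hx, hle⟩ | ⟨h, -⟩ | ⟨h, -⟩ | ⟨h, -⟩ | h
  · refine Or.inl ?_
    have h1 := h.card_dvd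
    have h2 := card_BP (F := ZMod p)
    rw [hcardF, hg] at h2
    have h3 : Nat.card H ∣ p * (p - 1) := h2 ▸ h1.trans (dvd_mul_left _ _)
    exact (Nat.coprime_comm.1 ((Nat.Prime.coprime_iff_not_dvd hp).2 hpH)).dvd_of_dvd_mul_left h3
  · obtain ⟨k, hk, h⟩ := cyclic_or_dihedral hx hle
    have hH : Nat.card H ∣ 2 * Nat.card (torus x) := by
      rcases h with ⟨-, -, e⟩ | ⟨e, -⟩
      · exact e ▸ hk.trans (dvd_mul_left _ _)
      · exact e ▸ mul_dvd_mul_left 2 hk
    have h2 := card_torus hx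
    rw [hcardF, hg] at h2
    rcases h2 with e | e
    · exact Or.inl (e ▸ hH)
    · exact Or.inr (Or.inl (e ▸ hH))
  · exact Or.inr (Or.inr (Or.inl h))
  · exact Or.inr (Or.inr (Or.inr (Or.inl h)))
  · exact Or.inr (Or.inr (Or.inr (Or.inr h)))
  · exfalso
    obtain ⟨K, iK, iK', e, he, hH⟩ := h.data
    rw [hcardF] at he
    have hK : Fintype.card K = p := by
      have hd : Fintype.card K ∣ p := by
        rcases e with _ | e
        · rw [pow_zero] at he; exact absurd he.symm hp.ne_one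
        · exact ⟨Fintype.card K ^ e, by rw [← he, pow_succ']⟩
      exact (hp.eq_one_or_self_of_dvd _ hd).resolve_left Fintype.one_lt_card.ne'
    have hPK : p ∣ Nat.card PSL(2, K) := by
      have h1 := card_PSL_formula K
      rw [hK, hg] at h1
      refine ((Nat.Prime.coprime_iff_not_dvd hp).2 fun h => hp2 ?_).dvd_of_dvd_mul_left
        (h1 ▸ dvd_mul_of_dvd_left (dvd_mul_right p _) _)
      exact (Nat.prime_dvd_prime_iff_eq hp Nat.prime_two).1 h
    refine hpH (hPK.trans ?_)
    rcases hH with ⟨⟨f⟩⟩ | ⟨⟨f⟩⟩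
    · exact (Nat.card_congr f.toEquiv).symm.dvd
    · rw [Nat.card_congr f.toEquiv]
      exact Subgroup.card_dvd_of_injective _
        (ProjectiveSpecialLinearGroup.toPGL_injective (n := Fin 2) (R := K))

/-- A prime with `p - 1 = A u` and `p + 1 = B w`. -/
theorem exists_prime {A B : ℕ} (hA : 1 < A) (hB : 1 < B) (hcop : A.Coprime B) (n : ℕ) :
    ∃ p u w : ℕ, n < p ∧ p.Prime ∧ p = A * u + 1 ∧ p + 1 = B * w ∧ A.Coprime u ∧ B.Coprime w := by
  have hco : (A * A).Coprime (B * B) := (hcop.mul_left hcop).mul_right (hcop.mul_left hcop)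
  obtain ⟨x, hxA, hxB⟩ := Nat.chineseRemainder hco (1 + A) (B * B + B - 1)
  have hBB : 1 ≤ B * B + B := by omega
  have hx : x.Coprime (A * A * (B * B)) := by
    have h1 : x.Coprime A := by
      have := (hxA.of_mul_right A).gcd_eq
      rw [Nat.gcd_add_self_left, Nat.gcd_one_left] at this
      exact this
    have h2 : x.Coprime B := by
      have := (hxB.of_mul_right B).gcd_eq
      rw [Nat.Coprime, this]
      refine Nat.eq_one_of_dvd_one ?_
      have hl := Nat.gcd_dvd_left (B * B + B - 1) B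
      have hr : Nat.gcd (B * B + B - 1) B ∣ B * B + B :=
        (Nat.gcd_dvd_right (B * B + B - 1) B).trans ⟨B + 1, by ring⟩
      have := Nat.dvd_sub hr hl
      rwa [show B * B + B - (B * B + B - 1) = 1 by omega] at this
    exact (h1.mul_right h1).mul_right (h2.mul_right h2)
  obtain ⟨p, hpn, hp, hpx⟩ := Nat.forall_exists_prime_gt_and_modEq (max n (A + B * B + B))
    (q := A * A * (B * B)) (by positivity) hx
  have hpA : p ≡ 1 + A [MOD A * A] := (hpx.of_mul_right _).trans hxA
  have hpB : p ≡ B * B + B - 1 [MOD B * B] := (hpx.of_mul_left _).trans hxB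
  obtain ⟨t, ht⟩ := (Nat.modEq_iff_dvd' (by omega)).1 hpA.symm
  obtain ⟨s, hs⟩ := (Nat.modEq_iff_dvd' (by omega)).1 hpB.symm
  refine ⟨p, 1 + A * t, 1 + B * (1 + s), by omega, hp, ?_, ?_, ?_, ?_⟩
  · have e1 : p = 1 + A + A * A * t := by omega
    rw [e1]; ring
  · have e1 : p + 1 = B * B + B + B * B * s := by omega
    rw [e1]; ring
  · simp [Nat.coprime_add_mul_left_right]
  · simp [Nat.coprime_add_mul_left_right]

/-- The counterexample for `m = A * B`. -/
theorem exists_counterexample {A B : ℕ} (hA : 1 < A) (hA2 : Odd A ∨ 4 ∣ A) (hB : 1 < B)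
    (hB2 : Odd B) (hcop : A.Coprime B)
    (hm : A * B ≠ 12 ∧ A * B ≠ 24 ∧ A * B ≠ 60) :
    ∃ (G : Type) (_ : Group G) (_ : Finite G), A * B ∣ Nat.card G ∧
      (A * B).Coprime (Nat.card G / (A * B)) ∧ ¬ ∃ H : Subgroup G, Nat.card H = A * B := by
  obtain ⟨p, u, w, hpn, hp, hpu, hpw, hAu, hBw⟩ := exists_prime hA hB hcop (A * B + 2)
  haveI : Fact p.Prime := ⟨hp⟩
  have hpodd : Odd p := hp.odd_of_ne_two (by omega)
  -- an odd or `≡ 0 (mod 4)` number cannot divide both `p - 1` and `p + 1` nontrivially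
  have htwo : ∀ d, d ∣ A * u → d ∣ B * w → d ∣ 2 := fun d h1 h2 => by
    have := Nat.dvd_sub h2 h1
    rwa [show B * w - A * u = 2 by omega] at this
  obtain ⟨r, hr, hru⟩ : ∃ r, u * w = 2 * r ∧ (A * B).Coprime r := by
    have hev : 2 ∣ A * u := by
      obtain ⟨c, hc⟩ := hpodd
      exact ⟨c, by omega⟩
    have hev' : 2 ∣ B * w := by
      obtain ⟨c, hc⟩ := hpodd
      exact ⟨c + 1, by omega⟩
    rcases hA2 with hodd | h4
    · obtain ⟨u', rfl⟩ := (Nat.coprime_two_left.2 hodd).dvd_of_dvd_mul_left hev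
      refine ⟨u' * w, by ring, Nat.Coprime.mul_left ?_ ?_⟩ <;> refine Nat.Coprime.mul_right ?_ ?_
      · exact hAu.coprime_dvd_right (dvd_mul_left _ _)
      · exact Nat.eq_one_of_dvd_coprimes (Nat.coprime_two_left.2 hodd)
          (htwo _ ((Nat.gcd_dvd_left _ _).trans (dvd_mul_right _ _))
            ((Nat.gcd_dvd_right _ _).trans (dvd_mul_left _ _))) (Nat.gcd_dvd_left _ _)
      · exact Nat.eq_one_of_dvd_coprimes (Nat.coprime_two_left.2 hB2)
          (htwo _ ((Nat.gcd_dvd_right _ _).trans ((dvd_mul_left _ _).trans (dvd_mul_left _ _)))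
            ((Nat.gcd_dvd_left _ _).trans (dvd_mul_right _ _))) (Nat.gcd_dvd_left _ _)
      · exact hBw
    · obtain ⟨w', rfl⟩ := (Nat.coprime_two_left.2 hB2).dvd_of_dvd_mul_left hev'
      refine ⟨u * w', by ring, Nat.Coprime.mul_left ?_ ?_⟩ <;> refine Nat.Coprime.mul_right ?_ ?_
      · exact hAu
      · have h2 : Nat.gcd A w' ∣ 2 := htwo _ ((Nat.gcd_dvd_left _ _).trans (dvd_mul_right _ _))
          ((Nat.gcd_dvd_right _ _).trans ((dvd_mul_left _ _).trans (dvd_mul_left _ _)))
        rcases (Nat.dvd_prime Nat.prime_two).1 h2 with e | e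
        · exact e
        · exfalso
          obtain ⟨c, hc⟩ := h4
          obtain ⟨d, hd⟩ : 2 ∣ w' := e ▸ Nat.gcd_dvd_right A w'
          have e1 : 4 ∣ A * u := ⟨c * u, by rw [hc]; ring⟩
          have e2 : 4 ∣ B * (2 * w') := ⟨B * d, by rw [hd]; ring⟩
          have := Nat.le_of_dvd two_pos (htwo 4 e1 e2)
          omega
      · exact Nat.eq_one_of_dvd_coprimes (Nat.coprime_two_left.2 hB2)
          (htwo _ ((Nat.gcd_dvd_right _ _).trans (dvd_mul_left _ _))
            ((Nat.gcd_dvd_left _ _).trans (dvd_mul_right _ _))) (Nat.gcd_dvd_left _ _)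
      · exact hBw.coprime_dvd_right (dvd_mul_left _ _)
  have hcard : Nat.card PSL(2, ZMod p) = A * B * (p * r) := by
    have h := card_PSL_formula (ZMod p)
    rw [ZMod.card, Nat.gcd_eq_left (show 2 ∣ p - 1 by obtain ⟨c, hc⟩ := hpodd; exact ⟨c, by omega⟩),
      show p - 1 = A * u by omega, hpw] at h
    refine Nat.eq_of_mul_eq_mul_left two_pos ?_
    rw [h, show p * (A * u) * (B * w) = A * B * p * (u * w) by ring, hr]
    ring
  have hAB : 0 < A * B := by positivity
  refine ⟨PSL(2, ZMod p), inferInstance, inferInstance, ⟨_, hcard⟩, ?_, ?_⟩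
  · rw [hcard, Nat.mul_div_cancel_left _ hAB]
    refine Nat.Coprime.mul_right (Nat.coprime_comm.1 ((Nat.Prime.coprime_iff_not_dvd hp).2 ?_)) hru
    exact fun h => absurd (Nat.le_of_dvd hAB h) (by omega)
  · rintro ⟨H, hH⟩
    have hpH : ¬ p ∣ Nat.card H := fun h => absurd (Nat.le_of_dvd hAB (hH ▸ h)) (by omega)
    rcases card_cases (by omega) H hpH with h | h | h | h | h <;> rw [hH] at h
    · rw [show p - 1 = A * u by omega] at h
      have h2 := htwo B ((dvd_mul_left B A).trans h) (dvd_mul_right B w)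
      have := Nat.le_of_dvd two_pos h2
      obtain ⟨c, rfl⟩ := hB2
      omega
    · rw [hpw] at h
      have h2 := htwo A (dvd_mul_right A u) ((dvd_mul_right A B).trans h)
      have := Nat.le_of_dvd two_pos h2
      rcases hA2 with ⟨c, rfl⟩ | ⟨c, rfl⟩ <;> omega
    · exact hm.1 h
    · exact hm.2.1 h
    · exact hm.2.2 h

/-- Every other `m` has a counterexample. -/
theorem exists_counterexample_of_not {m : ℕ} (hm : 2 ≤ m)
    (h : ¬ (IsPrimePow m ∨ m % 4 = 2 ∨ m = 12 ∨ m = 24 ∨ m = 60)) :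
    ∃ (G : Type) (_ : Group G) (_ : Finite G), m ∣ Nat.card G ∧
      m.Coprime (Nat.card G / m) ∧ ¬ ∃ H : Subgroup G, Nat.card H = m := by
  push_neg at h
  obtain ⟨hpp, h4, h12, h24, h60⟩ := h
  set q := m.minFac with hq
  have hqp : q.Prime := Nat.minFac_prime (by omega)
  have he := Nat.ordProj_mul_ordCompl_eq_self m q
  have hcop : (q ^ m.factorization q).Coprime (m / q ^ m.factorization q) :=
    (Nat.coprime_ordCompl hqp (by omega)).pow_left _
  have hk : 0 < m.factorization q :=
    hqp.factorization_pos_of_dvd (by omega) (Nat.minFac_dvd m)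
  have hA : 1 < q ^ m.factorization q := Nat.one_lt_pow hk.ne' hqp.one_lt
  have hB : 1 < m / q ^ m.factorization q := by
    rcases Nat.lt_or_ge 1 (m / q ^ m.factorization q) with h | h
    · exact h
    · exfalso
      have h1 : m / q ^ m.factorization q = 1 :=
        le_antisymm h (Nat.ordCompl_pos q (by omega))
      rw [h1, mul_one] at he
      exact hpp (he ▸ hqp.isPrimePow.pow hk.ne')
  have hBodd : Odd (m / q ^ m.factorization q) := by
    rw [Nat.odd_iff, ← Nat.two_dvd_ne_zero]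
    intro h2
    have hm2 : 2 ∣ m := h2.trans ⟨q ^ m.factorization q, by rw [mul_comm]; exact he.symm⟩
    have : q = 2 := (Nat.minFac_eq_two_iff m).2 hm2
    exact Nat.not_dvd_ordCompl (n := m) hqp (by omega) (by rw [this] at h2 ⊢; exact h2)
  have hA2 : Odd (q ^ m.factorization q) ∨ 4 ∣ q ^ m.factorization q := by
    rcases hqp.eq_two_or_odd' with e | e
    · refine Or.inr ?_
      rcases Nat.lt_or_ge (m.factorization q) 2 with hlt | hge
      · exfalso
        have h1 : q ^ m.factorization q = 2 := by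
          rw [show m.factorization q = 1 by omega, pow_one, e]
        obtain ⟨c, hc⟩ := hBodd
        have he' : q ^ m.factorization q * (2 * c + 1) = m := by rw [← hc]; exact he
        rw [h1] at he'
        omega
      · exact dvd_trans (by rw [e]; norm_num) (pow_dvd_pow q hge)
    · exact Or.inl e.pow
  have := exists_counterexample hA hA2 hB hBodd hcop (by rw [he]; exact ⟨h12, h24, h60⟩)
  rwa [he] at this

end CfsgLib.HallNumbers
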