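import Cfsg.Agent.S0205
import Cfsg.Agent.Solvable.Hall
import Cfsg.Agent.Transfer.Frobenius
import Cfsg.Agent.AGroups.Factorization
import Cfsg.Agent.Coprime.Basic
import Cfsg.Agent.HallEight.Main
import Cfsg.Agent.SelfCentralizing.Basic

/-!
# Hall numbers: prime powers, `m ≡ 2 (mod 4)`, twelve and twenty-four
-/

set_option autoImplicit false
set_option linter.style.haveILetI false
set_option linter.unusedSectionVars false

namespace CfsgLib.HallNumbers

open Subgroup

universe u

variable {G : Type u} [Group G] [Finite G]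

/-- `G` has a subgroup of order `m`. -/
def HasOrder (G : Type u) [Group G] (m : ℕ) : Prop := ∃ H : Subgroup G, Nat.card H = m

theorem hasOrder_of_solvable (hs : Group.IsSolvable G) {m : ℕ} (hd : m ∣ Nat.card G)
    (hc : m.Coprime (Nat.card G / m)) : HasOrder G m :=
  haveI := hs
  CfsgLib.Solvable.exists_card_eq_of_coprime (Nat.mul_div_cancel' hd).symm hc

/-- A coprime divisor of `|G|` stays coprime in a subgroup. -/
theorem hasOrder_of_subgroup {K : Subgroup G} (hs : Group.IsSolvable K) {m : ℕ} (hm : 0 < m)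
    (hd : m ∣ Nat.card K) (hc : m.Coprime (Nat.card G / m)) : HasOrder G m := by
  have h := Nat.div_dvd_div hd K.card_subgroup_dvd_card
  obtain ⟨H, hH⟩ := hasOrder_of_solvable hs hd (hc.coprime_dvd_right h)
  exact ⟨H.map K.subtype, by rw [card_map_of_injective K.subtype_injective, hH]⟩

/-- A normal 2-complement gives solvability. -/
theorem isSolvable_of_complement (h : Cfsg.HasNormalPComplement 2 G) : Group.IsSolvable G := by
  haveI : Fact (Nat.Prime 2) := ⟨Nat.prime_two⟩
  obtain ⟨P, N, hN, hc⟩ := h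
  haveI := hN
  refine CfsgLib.AGroups.isSolvable_of_normal N (Cfsg.Agent.S0205.result ?_) ?_
  · rw [Nat.odd_iff, ← Nat.two_dvd_ne_zero, ← hc.index_eq_card]
    exact P.not_dvd_index
  · have hcard : Nat.card (G ⧸ N) = Nat.card (P : Subgroup G) := by
      rw [← index_eq_card, hc.symm.index_eq_card]
    obtain ⟨k, hk⟩ := IsPGroup.iff_card.1 P.isPGroup'
    haveI := (IsPGroup.of_card (hcard.trans hk) : IsPGroup 2 (G ⧸ N)).isNilpotent
    infer_instance

/-- A group of order not divisible by four is solvable. -/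
theorem isSolvable_of_not_four_dvd (h : ¬ 4 ∣ Nat.card G) : Group.IsSolvable G := by
  haveI : Fact (Nat.Prime 2) := ⟨Nat.prime_two⟩
  by_cases h2 : 2 ∣ Nat.card G
  · obtain ⟨S⟩ : Nonempty (Sylow 2 G) := inferInstance
    obtain ⟨k, hk⟩ := IsPGroup.iff_card.1 S.isPGroup'
    have hS : IsCyclic (S : Subgroup G) := by
      have hdvd : 2 ^ k ∣ Nat.card G := hk ▸ card_subgroup_dvd_card _
      rcases k with _ | _ | k
      · haveI : Subsingleton (S : Subgroup G) := (Nat.card_eq_one_iff_unique.1 hk).1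
        infer_instance
      · exact isCyclic_of_prime_card (p := 2) (by rw [hk, pow_one])
      · exact absurd (dvd_trans ⟨2 ^ k, by ring⟩ hdvd) h
    have hN := hS.normalizer_le_centralizer ((Nat.minFac_eq_two_iff _).2 h2)
    exact isSolvable_of_complement ⟨S, _, inferInstance,
      MonoidHom.ker_transferSylow_isComplement' S hN⟩
  · exact Cfsg.Agent.S0205.result (Nat.odd_iff.2 (Nat.two_dvd_ne_zero.1 h2))

/-- A group with cyclic Sylow 2-subgroups is solvable. -/
theorem isSolvable_of_cyclic (S : Sylow 2 G) (hS : IsCyclic (S : Subgroup G)) :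
    Group.IsSolvable G := by
  haveI : Fact (Nat.Prime 2) := ⟨Nat.prime_two⟩
  by_cases h2 : 2 ∣ Nat.card G
  · exact isSolvable_of_complement ⟨S, _, inferInstance, MonoidHom.ker_transferSylow_isComplement' S
      (hS.normalizer_le_centralizer ((Nat.minFac_eq_two_iff _).2 h2))⟩
  · exact isSolvable_of_not_four_dvd fun h => h2 (dvd_trans (by norm_num) h)

/-- Prime powers. -/
theorem hasOrder_primePow {m : ℕ} (hm : IsPrimePow m) (hd : m ∣ Nat.card G) : HasOrder G m := by
  obtain ⟨p, k, hp, -, rfl⟩ := (isPrimePow_nat_iff m).1 hm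
  haveI : Fact p.Prime := ⟨hp⟩
  exact Sylow.exists_subgroup_card_pow_prime p hd

theorem hasOrder_two_mod_four {m : ℕ} (hm : m % 4 = 2) (hd : m ∣ Nat.card G)
    (hc : m.Coprime (Nat.card G / m)) : HasOrder G m := by
  refine hasOrder_of_solvable (isSolvable_of_not_four_dvd fun h4 => ?_) hd hc
  have h2 : Nat.Coprime 2 (Nat.card G / m) := hc.coprime_dvd_left (by omega)
  rw [← Nat.mul_div_cancel' hd] at h4
  have h4' : (4 : ℕ) ∣ m :=
    Nat.Coprime.dvd_of_dvd_mul_right (by simpa using h2.pow_left 2) h4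
  omega

/-- Odd prime orders of automorphisms of a group of order dividing eight. -/
theorem aut_prime {Q : Type u} [Group Q] [Finite Q] (hQ : Nat.card Q ∣ 8) {p : ℕ} (hp : p.Prime)
    (hp2 : p ≠ 2) (α : MulAut Q) (hα : orderOf α = p) :
    (p = 3 ∧ 4 ∣ Nat.card Q) ∨ (p = 7 ∧ Nat.card Q = 8 ∧ ∀ x : Q, x * x = 1) := by
  haveI : Fact p.Prime := ⟨hp⟩
  haveI : Fact (Nat.Prime 2) := ⟨Nat.prime_two⟩
  have hcardA : Nat.card (zpowers α) = p := by rw [Nat.card_zpowers, hα]
  let F : Subgroup Q := α.toMonoidHom.eqLocus (MonoidHom.id Q)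
  have hfix : ∀ x : Q, x ∈ MulAction.fixedPoints (zpowers α) Q ↔ α x = x := by
    intro x
    constructor
    · intro h; exact h ⟨α, mem_zpowers α⟩
    · rintro h ⟨β, hβ⟩
      have : zpowers α ≤ MulAction.stabilizer (MulAut Q) x := zpowers_le.2 h
      exact this hβ
  have hmod : Nat.card Q ≡ Nat.card F [MOD p] := by
    have h := (IsPGroup.of_card (n := 1) (by rw [hcardA, pow_one]) :
      IsPGroup p (zpowers α)).card_modEq_card_fixedPoints Q
    rwa [show Nat.card (MulAction.fixedPoints (zpowers α) Q) = Nat.card F from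
      Nat.card_congr (Equiv.setCongr (Set.ext fun x => (hfix x).trans Iff.rfl))] at h
  have hne : Nat.card F ≠ Nat.card Q := fun e => hp.ne_one <| by
    rw [← hα, orderOf_eq_one_iff]
    ext x
    have : x ∈ F := (eq_top_of_card_eq F e).symm ▸ mem_top x
    exact this
  obtain ⟨i, hi, hiQ⟩ := (Nat.dvd_prime_pow Nat.prime_two).1 (show Nat.card Q ∣ 2 ^ 3 by norm_num [hQ])
  obtain ⟨j, hj, hjF⟩ := (Nat.dvd_prime_pow Nat.prime_two).1
    (show Nat.card F ∣ 2 ^ i from hiQ ▸ F.card_subgroup_dvd_card)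
  rw [hiQ, hjF] at hmod hne
  have hdvd : p ∣ 2 ^ i - 2 ^ j :=
    (Nat.modEq_iff_dvd' (Nat.pow_le_pow_right two_pos hj)).1 hmod.symm
  have hcases : (p = 3 ∧ 2 ≤ i) ∨ (p = 7 ∧ i = 3 ∧ j = 0) := by
    interval_cases i <;> interval_cases j
    all_goals (try norm_num at hdvd hne)
    all_goals (try norm_num)
    all_goals first
      | exact (Nat.prime_dvd_prime_iff_eq hp Nat.prime_three).1 hdvd
      | exact (Nat.prime_dvd_prime_iff_eq hp (by norm_num)).1 hdvd
      | exact absurd hdvd hp.ne_one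
      | exact Or.inr ((Nat.prime_dvd_prime_iff_eq hp (by norm_num)).1 hdvd)
      | exact Or.inl ((Nat.prime_dvd_prime_iff_eq hp Nat.prime_three).1 hdvd)
      | exact absurd ((Nat.prime_dvd_prime_iff_eq hp Nat.prime_two).1 hdvd) hp2
      | exact absurd ((Nat.prime_dvd_prime_iff_eq hp Nat.prime_two).1
          (hp.dvd_of_dvd_pow (n := 2) hdvd)) hp2
      | (rcases (Nat.Prime.dvd_mul hp).1 (show p ∣ 2 * 3 from hdvd) with e | e
         · exact absurd ((Nat.prime_dvd_prime_iff_eq hp Nat.prime_two).1 e) hp2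
         · first
           | exact (Nat.prime_dvd_prime_iff_eq hp Nat.prime_three).1 e
           | exact Or.inl ((Nat.prime_dvd_prime_iff_eq hp Nat.prime_three).1 e))
  rcases hcases with ⟨rfl, h2i⟩ | ⟨rfl, rfl, rfl⟩
  · exact Or.inl ⟨rfl, hiQ ▸ pow_dvd_pow 2 h2i⟩
  refine Or.inr ⟨rfl, hiQ, fun x => ?_⟩
  -- a fixed-point-free orbit of involutions
  obtain ⟨y, hy⟩ := exists_prime_orderOf_dvd_card' (G := Q) 2 (by rw [hiQ]; norm_num)
  have hFbot : F = ⊥ := eq_bot_of_card_eq F (by rw [hjF, pow_zero])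
  have horb : Nat.card (MulAction.orbit (zpowers α) y) = 7 := by
    have h1 := Nat.card_congr (MulAction.orbitEquivQuotientStabilizer (zpowers α) y)
    rw [← index_eq_card] at h1
    have h2 := index_dvd_card (MulAction.stabilizer (zpowers α) y)
    rw [hcardA, ← h1] at h2
    rcases (Nat.dvd_prime (by norm_num)).1 h2 with e | e
    · exfalso
      rw [h1, index_eq_one] at e
      have hyF : y ∈ F := ((hfix y).1 fun a => (e.symm ▸ mem_top a :))
      rw [hFbot, mem_bot] at hyF
      rw [hyF, orderOf_one] at hy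
      norm_num at hy
    · exact e
  have hy2 : y * y = 1 := by rw [← sq, ← hy, pow_orderOf_eq_one]
  have hy1 : y ≠ 1 := fun e => by rw [e, orderOf_one] at hy; norm_num at hy
  have hunion : (insert 1 (MulAction.orbit (zpowers α) y) : Set Q) = Set.univ := by
    refine Set.eq_of_subset_of_ncard_le (Set.subset_univ _) (le_of_eq ?_) Set.finite_univ
    rw [Set.ncard_univ, Set.ncard_insert_of_notMem ?_ (Set.toFinite _), ← Nat.card_coe_set_eq,
      horb, hiQ]
    · norm_num
    rintro ⟨⟨β, hβ⟩, hβy⟩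
    exact hy1 ((MulEquiv.map_eq_one_iff β).1 hβy)
  rcases (hunion ▸ Set.mem_univ x : x ∈ insert 1 (MulAction.orbit (zpowers α) y)) with
    rfl | ⟨⟨β, hβ⟩, rfl⟩
  · exact mul_one 1
  · show β y * β y = 1
    rw [← map_mul, hy2, map_one]

/-- An element of odd order normalising but not centralising a 2-subgroup. -/
theorem bad_pair {Q : Subgroup G} (hQ : Nat.card Q ∣ 8) {g : G}
    (hg : g ∈ normalizer (Q : Set G)) (hodd : (orderOf g).Coprime 2)
    (hgc : g ∉ centralizer (Q : Set G)) :
    (3 ∣ Nat.card (normalizer (Q : Set G)) ∧ 4 ∣ Nat.card Q) ∨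
      (Nat.card Q = 8 ∧ ∀ x : Q, x * x = 1) := by
  set α := Q.normalizerMonoidHom ⟨g, hg⟩ with hα
  have hα1 : orderOf α ≠ 1 := by
    rw [ne_eq, orderOf_eq_one_iff]
    intro e
    have : (⟨g, hg⟩ : normalizer (Q : Set G)) ∈ Q.normalizerMonoidHom.ker := e
    rw [normalizerMonoidHom_ker] at this
    exact hgc this
  set p := (orderOf α).minFac
  have hp : p.Prime := Nat.minFac_prime hα1
  have hpg : p ∣ orderOf g :=
    (Nat.minFac_dvd _).trans ((orderOf_map_dvd _ _).trans (Subgroup.orderOf_mk g hg).dvd)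
  have hp2 : p ≠ 2 := fun e => by
    have := Nat.eq_one_of_dvd_coprimes hodd hpg (e ▸ dvd_rfl)
    exact hp.ne_one this
  have hord : orderOf (α ^ (orderOf α / p)) = p := by
    rw [orderOf_pow_of_dvd (Nat.div_pos (Nat.le_of_dvd (orderOf_pos α) (Nat.minFac_dvd _))
      hp.pos).ne' (Nat.div_dvd_of_dvd (Nat.minFac_dvd _)),
      Nat.div_div_self (Nat.minFac_dvd _) (orderOf_pos α).ne']
  rcases aut_prime hQ hp hp2 _ hord with ⟨e, h4⟩ | ⟨-, h8, hsq⟩
  · refine Or.inl ⟨?_, h4⟩
    rw [← e]
    exact hpg.trans ((Subgroup.orderOf_mk g hg).symm.dvd.trans (orderOf_dvd_natCard _))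
  · exact Or.inr ⟨h8, hsq⟩

/-- A 2-subgroup `Q` of index at most two in a Sylow 2-subgroup with `3` dividing `|N(Q)|`. -/
theorem hasOrder_of_local {a : ℕ} (ha : a = 4 ∨ a = 8) (S : Sylow 2 G)
    (hS : Nat.card (S : Subgroup G) = a) (hc : (3 * a).Coprime (Nat.card G / (3 * a)))
    {Q : Subgroup G} (hQS : Q ≤ S) (h4 : 4 ∣ Nat.card Q)
    (h3 : 3 ∣ Nat.card (normalizer (Q : Set G))) : HasOrder G (3 * a) := by
  haveI : Fact (Nat.Prime 2) := ⟨Nat.prime_two⟩
  have hQd : Nat.card Q ∣ a := hS ▸ card_dvd_of_le hQS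
  set k := (Q.subgroupOf (S : Subgroup G)).index with hk
  have hkQ : Nat.card Q * k = a := by
    rw [hk, ← hS, ← card_mul_index (Q.subgroupOf (S : Subgroup G)),
      Nat.card_congr (subgroupOfEquivOfLe hQS).toEquiv]
  haveI hn : (Q.subgroupOf (S : Subgroup G)).Normal := by
    have hk2 : k = 1 ∨ k = 2 := by
      obtain ⟨c, hc'⟩ := h4
      rw [hc'] at hkQ
      have h' : c * k ≤ 2 := by rcases ha with rfl | rfl <;> nlinarith
      have hck : 0 < c * k := by rcases ha with rfl | rfl <;> nlinarith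
      have hk1 : 0 < k := pos_of_mul_pos_right hck (Nat.zero_le _)
      have hc1 : 0 < c := pos_of_mul_pos_left hck (Nat.zero_le _)
      have : k ≤ 2 := le_trans (Nat.le_mul_of_pos_left k hc1) h'
      omega
    rcases hk2 with e | e
    · rw [index_eq_one] at e; rw [e]; infer_instance
    · exact normal_of_index_eq_two e
  have hSN : (S : Subgroup G) ≤ normalizer (Q : Set G) := normal_subgroupOf_iff_le_normalizer hQS |>.1 hn
  have hcop : Nat.Coprime 3 a := by rcases ha with rfl | rfl <;> norm_num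
  have hd : 3 * a ∣ Nat.card (normalizer (Q : Set G)) :=
    hcop.mul_dvd_of_dvd_of_dvd h3 (hS ▸ card_dvd_of_le hSN)
  refine hasOrder_of_subgroup (CfsgLib.AGroups.isSolvable_of_normal
    (Q.subgroupOf (normalizer (Q : Set G))) ?_ ?_) (by rcases ha with rfl | rfl <;> norm_num) hd hc
  · have : IsPGroup 2 (Q.subgroupOf (normalizer (Q : Set G))) :=
      (S.isPGroup'.to_le hQS).comap_subtype
    haveI := this.isNilpotent
    infer_instance
  · refine isSolvable_of_not_four_dvd fun h => ?_
    have h' : 4 * Nat.card Q ∣ Nat.card G := by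
      refine dvd_trans ?_ (normalizer (Q : Set G)).card_subgroup_dvd_card
      rw [card_eq_card_quotient_mul_card_subgroup (Q.subgroupOf (normalizer (Q : Set G))),
        Nat.card_congr (subgroupOfEquivOfLe le_normalizer).toEquiv]
      exact mul_dvd_mul_right h _
    obtain ⟨i, hi⟩ := IsPGroup.iff_card.1 (S.isPGroup'.to_le hQS)
    have h16 : 4 * Nat.card Q ∣ Nat.card (S : Subgroup G) := by
      rw [S.card_eq_multiplicity, hi, show 4 * 2 ^ i = 2 ^ (i + 2) by ring]
      refine pow_dvd_pow 2 ((Nat.Prime.pow_dvd_iff_le_factorization Nat.prime_two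
        Nat.card_pos.ne').1 ?_)
      rwa [show 2 ^ (i + 2) = 4 * 2 ^ i by ring, ← hi]
    have hle : 4 * Nat.card Q ≤ a :=
      Nat.le_of_dvd (by rcases ha with rfl | rfl <;> norm_num) (hS ▸ h16)
    have := Nat.le_of_dvd Nat.card_pos h4
    rcases ha with rfl | rfl <;> omega

/-- The case of an elementary abelian Sylow 2-subgroup with a small automizer. -/
theorem hasOrder_eight (S : Sylow 2 G) (hS : Nat.card (S : Subgroup G) = 8)
    (hsq : ∀ x : (S : Subgroup G), x * x = 1) (hd : 24 ∣ Nat.card G)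
    (hc : Nat.Coprime 24 (Nat.card G / 24))
    (h3 : ¬ 3 ∣ Nat.card (normalizer ((S : Subgroup G) : Set G))) : HasOrder G 24 := by
  haveI : Fact (Nat.Prime 2) := ⟨Nat.prime_two⟩
  haveI : Fact (Nat.Prime 3) := ⟨Nat.prime_three⟩
  have h9 : ¬ 9 ∣ Nat.card G := fun h => by
    rw [← Nat.mul_div_cancel' hd, show 24 = 3 * 8 from rfl, mul_assoc,
      show (9 : ℕ) = 3 * 3 from rfl, Nat.mul_dvd_mul_iff_left (by norm_num : 0 < 3)] at h
    rcases (Nat.Prime.dvd_mul Nat.prime_three).1 h with e | e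
    · norm_num at e
    · exact absurd (Nat.eq_one_of_dvd_coprimes hc (by norm_num) e) (by norm_num)
  set N := normalizer ((S : Subgroup G) : Set G) with hN
  let φ : N →* MulAut (S : Subgroup G) := (S : Subgroup G).normalizerMonoidHom
  have hW : Nat.card φ.range ∣ 7 := by
    have hodd : ¬ 2 ∣ Nat.card φ.range := by
      rw [← index_ker]
      intro h
      have hle : (S : Subgroup G).subgroupOf N ≤ φ.ker := by
        rw [show φ.ker = (centralizer ((S : Subgroup G) : Set G)).subgroupOf N from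
          normalizerMonoidHom_ker _]
        intro x hx
        rw [mem_subgroupOf, mem_centralizer_iff]
        intro y hy
        have e1 := hsq ⟨y, hy⟩
        have e2 := hsq ⟨x, hx⟩
        have e3 := hsq (⟨y, hy⟩ * ⟨x, hx⟩)
        have hcomm : (⟨y, hy⟩ : (S : Subgroup G)) * ⟨x, hx⟩ = ⟨x, hx⟩ * ⟨y, hy⟩ := by
          rw [eq_inv_of_mul_eq_one_left e3, mul_inv_rev, ← eq_inv_of_mul_eq_one_left e1,
            ← eq_inv_of_mul_eq_one_left e2]
        exact congrArg Subtype.val hcomm
      have h1 := h.trans (index_dvd_of_le hle)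
      exact S.not_dvd_index (h1.trans (by
        change (S : Subgroup G).relIndex N ∣ (S : Subgroup G).index
        exact relIndex_dvd_index_of_le le_normalizer))
    have hall : ∀ p : ℕ, p.Prime → p ∣ Nat.card φ.range → p = 7 := by
      intro p hp hpd
      haveI : Fact p.Prime := ⟨hp⟩
      obtain ⟨⟨α, x, rfl⟩, hα⟩ := exists_prime_orderOf_dvd_card' p hpd
      replace hα : orderOf (φ x) = p := by rw [← hα]; exact orderOf_injective φ.range.subtype φ.range.subtype_injective ⟨φ x, x, rfl⟩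
      have hp2 : p ≠ 2 := fun e => hodd (e ▸ hpd)
      rcases aut_prime (dvd_of_eq hS) hp hp2 (φ x) hα with ⟨rfl, -⟩ | ⟨e, -⟩
      · exact absurd (((hα ▸ orderOf_map_dvd φ x : 3 ∣ orderOf x)).trans
          (orderOf_dvd_natCard x)) h3
      · exact e
    have hdvd : Nat.card φ.range ∣ Nat.factorial 8 := by
      classical
      refine (card_subgroup_dvd_card φ.range).trans ?_
      refine (Subgroup.card_dvd_of_injective (MulDistribMulAction.toMulAction.toPermHom
        (MulAut (S : Subgroup G)) (S : Subgroup G)) fun a b e => ?_).trans ?_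
      · exact MulEquiv.ext fun z => congrArg (fun f : Equiv.Perm _ => f z) e
      · rw [Nat.card_perm, hS]
    obtain ⟨k, hk⟩ : ∃ k, Nat.card φ.range = 7 ^ k :=
      ⟨_, Nat.eq_prime_pow_of_unique_prime_dvd Nat.card_pos.ne'
        fun {q} hq hqd => hall q hq hqd⟩
    rw [hk] at hdvd ⊢
    refine (pow_dvd_pow 7 ?_).trans (dvd_of_eq (pow_one 7))
    by_contra hk2
    exact absurd ((pow_dvd_pow 7 (show 2 ≤ k by omega)).trans hdvd) (by decide)
  have hHyp : CfsgLib.HallEight.Hyp S := by
    refine ⟨fun x hx => congrArg Subtype.val (hsq ⟨x, hx⟩), hS, ?_, h9⟩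
    show ((centralizer ((S : Subgroup G) : Set G)).subgroupOf N).index ∣ 7
    rw [← normalizerMonoidHom_ker, index_ker]
    exact hW
  have htop := CfsgLib.HallEight.oddCore_sup_normalizer S hHyp
  set O := Cfsg.oddCore G with hO
  haveI : O.Normal := inferInstance
  have hOodd : Odd (Nat.card O) := CfsgLib.Inv54.odd_card_oddCore
  have h3O : 3 ∣ Nat.card O := by
    have h1 : Nat.card G ∣ Nat.card O * Nat.card N := by
      have := CfsgLib.SelfCentralizing.card_sup_dvd_mul O N
      rwa [htop, card_top] at this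
    exact ((Nat.Prime.dvd_mul Nat.prime_three).1 ((dvd_trans (by norm_num) hd).trans h1)).resolve_right h3
  obtain ⟨P⟩ : Nonempty (Sylow 3 O) := inferInstance
  have hPcard : Nat.card (P : Subgroup O) = 3 := by
    rw [P.card_eq_multiplicity]
    have h1 : 1 ≤ (Nat.card O).factorization 3 :=
      (Nat.Prime.pow_dvd_iff_le_factorization Nat.prime_three Nat.card_pos.ne').1
        (by simpa using h3O)
    have h2 : ¬ 2 ≤ (Nat.card O).factorization 3 := fun h =>
      h9 (((Nat.Prime.pow_dvd_iff_le_factorization Nat.prime_three Nat.card_pos.ne').2 h).trans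
        O.card_subgroup_dvd_card)
    rw [show (Nat.card O).factorization 3 = 1 by omega]
    rfl
  set R := (P : Subgroup O).map O.subtype with hR
  have hRcard : Nat.card R = 3 := by rw [hR, card_map_of_injective O.subtype_injective, hPcard]
  have hfr : normalizer (R : Set G) ⊔ O = ⊤ := Sylow.normalizer_sup_eq_top P
  have h8 : 8 ∣ Nat.card (normalizer (R : Set G)) := by
    have h1 : Nat.card G ∣ Nat.card O * Nat.card (normalizer (R : Set G)) := by
      have := CfsgLib.SelfCentralizing.card_sup_dvd_mul O (normalizer (R : Set G))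
      rwa [sup_comm, hfr, card_top] at this
    refine Nat.Coprime.dvd_of_dvd_mul_left ?_ ((dvd_trans (by norm_num) hd).trans h1)
    exact (Nat.coprime_two_left.2 hOodd).pow_left 3
  obtain ⟨T, hT⟩ := Sylow.exists_subgroup_card_pow_prime 2 (n := 3) (by simpa using h8)
  refine ⟨R ⊔ T.map (normalizer (R : Set G)).subtype, ?_⟩
  have hTcard : Nat.card (T.map (normalizer (R : Set G)).subtype) = 8 := by
    rw [card_map_of_injective (normalizer (R : Set G)).subtype_injective, hT]; rfl
  rw [CfsgLib.Coprime.card_sup_eq (map_subtype_le T)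
    (CfsgLib.Coprime.inf_eq_bot_of_coprime (by rw [hRcard, hTcard]; norm_num)), hRcard, hTcard]

/-- `m = 12` and `m = 24`. -/
theorem hasOrder_three_mul {a : ℕ} (ha : a = 4 ∨ a = 8) (hd : 3 * a ∣ Nat.card G)
    (hc : (3 * a).Coprime (Nat.card G / (3 * a))) : HasOrder G (3 * a) := by
  haveI : Fact (Nat.Prime 2) := ⟨Nat.prime_two⟩
  obtain ⟨S⟩ : Nonempty (Sylow 2 G) := inferInstance
  have hS : Nat.card (S : Subgroup G) = a := by
    obtain ⟨k, hk⟩ := IsPGroup.iff_card.1 S.isPGroup'
    have haS : a ∣ Nat.card (S : Subgroup G) := by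
      obtain ⟨j, hj, rfl⟩ : ∃ j, True ∧ a = 2 ^ j :=
        ha.elim (fun e => ⟨2, trivial, e⟩) (fun e => ⟨3, trivial, e⟩)
      rw [S.card_eq_multiplicity]
      exact pow_dvd_pow 2 ((Nat.Prime.pow_dvd_iff_le_factorization Nat.prime_two
        Nat.card_pos.ne').1 ((dvd_mul_left _ 3).trans hd))
    have h1 : Nat.card (S : Subgroup G) ∣ 3 * a := by
      refine Nat.Coprime.dvd_of_dvd_mul_right ?_
        (show Nat.card (S : Subgroup G) ∣ 3 * a * (Nat.card G / (3 * a)) by
          rw [Nat.mul_div_cancel' hd]; exact card_subgroup_dvd_card _)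
      rw [hk]
      refine (hc.coprime_dvd_left ?_).pow_left k
      rcases ha with rfl | rfl <;> norm_num
    have h2 : Nat.card (S : Subgroup G) ∣ a := by
      refine Nat.Coprime.dvd_of_dvd_mul_left ?_ h1
      rw [hk]
      exact Nat.Coprime.pow_left k (by norm_num)
    exact Nat.dvd_antisymm h2 haS
  have hS8 : Nat.card (S : Subgroup G) ∣ 8 := by rw [hS]; rcases ha with rfl | rfl <;> norm_num
  by_cases hloc : ∃ Q : Subgroup G, Q ≤ S ∧ 4 ∣ Nat.card Q ∧
      3 ∣ Nat.card (normalizer (Q : Set G))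
  · obtain ⟨Q, hQS, h4, h3⟩ := hloc
    exact hasOrder_of_local ha S hS hc hQS h4 h3
  push_neg at hloc
  by_cases hE : Nat.card (S : Subgroup G) = 8 ∧ ∀ x : (S : Subgroup G), x * x = 1
  · obtain rfl : a = 8 := hS.symm.trans hE.1
    exact hasOrder_eight S hS hE.2 hd hc (hloc S le_rfl (by rw [hS]; norm_num))
  refine hasOrder_of_solvable (isSolvable_of_complement
    (CfsgLib.Transfer.hasNormalPComplement_of_local S fun Q hQ g hg ho => ?_)) hd hc
  by_contra hgc
  rcases bad_pair ((card_dvd_of_le hQ).trans hS8) hg ho hgc with ⟨h3, h4⟩ | ⟨h8, hsq⟩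
  · exact hloc Q hQ h4 h3
  · have hQS : Q = (S : Subgroup G) :=
      eq_of_le_of_card_ge hQ ((Nat.le_of_dvd (by norm_num) hS8).trans_eq h8.symm)
    subst hQS
    exact hE ⟨h8, hsq⟩

end CfsgLib.HallNumbers
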