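import Cfsg.Agent.HallNumbers.Sixty
import Cfsg.Agent.HallNumbers.Converse
import Cfsg.Agent.GWQuasi.Bridge

/-!
# Hall numbers, given the Gorenstein–Walter theorem
-/

set_option autoImplicit false

namespace CfsgLib.HallNumbers

/-- The Hall numbers are the prime powers, the `m ≡ 2 (mod 4)`, and `12`, `24`, `60`. -/
theorem hall_numbers
    (hp : ∀ (X : Type) [Group X] [Finite X] [Group.IsPerfect X] (S : Sylow 2 X) (n : ℕ), 2 ≤ n →
      Nonempty ((S : Subgroup X) ≃* DihedralGroup n) →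
      (∃ (F : Type) (_ : Field F) (_ : Fintype F), Odd (Fintype.card F) ∧ 3 < Fintype.card F ∧
          Nonempty (X ⧸ Cfsg.oddCore X ≃* Matrix.ProjectiveSpecialLinearGroup (Fin 2) F)) ∨
        Nonempty (X ⧸ Cfsg.oddCore X ≃* alternatingGroup (Fin 7)))
    (m : ℕ) (hm : 2 ≤ m) :
    (∀ (G : Type) [Group G] [Finite G], m ∣ Nat.card G → m.Coprime (Nat.card G / m) →
        ∃ H : Subgroup G, Nat.card H = m) ↔
    (IsPrimePow m ∨ m % 4 = 2 ∨ m = 12 ∨ m = 24 ∨ m = 60) := by
  refine ⟨fun h => ?_, fun h G _ _ hd hc => ?_⟩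
  · by_contra hne
    obtain ⟨G, iG, iF, hd, hc, hno⟩ := exists_counterexample_of_not hm hne
    exact hno (@h G iG iF hd hc)
  · rcases h with h | h | rfl | rfl | rfl
    · exact hasOrder_primePow h hd
    · exact hasOrder_two_mod_four h hd hc
    · exact hasOrder_three_mul (a := 4) (Or.inl rfl) hd hc
    · exact hasOrder_three_mul (a := 8) (Or.inr rfl) hd hc
    · exact hasOrder_sixty (GWQuasi.simpleHyp_of_perfect hp) hd hc

end CfsgLib.HallNumbers
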