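import Cfsg.Agent.HallNumbers.Forward
import Cfsg.Agent.GW.Known
import Cfsg.Agent.DicksonPSL2.MaximalExceptional
import Cfsg.Agent.PLocal.Cores
import Mathlib.GroupTheory.SchurZassenhaus

/-!
# Hall numbers: `m = 60`, given the Gorenstein–Walter theorem
-/

set_option autoImplicit false
set_option linter.style.haveILetI false
set_option linter.unusedSectionVars false

namespace CfsgLib.HallNumbers

open Subgroup Matrix
open scoped MatrixGroups

universe u

/-- `PSL(2, F)` of odd characteristic with order divisible by five contains an `A₅`. -/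
theorem exists_sixty_PSL (F : Type) [Field F] [Fintype F] (hodd : Odd (Fintype.card F))
    (h5 : 5 ∣ Nat.card PSL(2, F)) : HasOrder PSL(2, F) 60 := by
  haveI : Fact (Nat.Prime 5) := ⟨by norm_num⟩
  obtain ⟨x, hx⟩ := exists_prime_orderOf_dvd_card' 5 h5
  obtain ⟨g, rfl⟩ := DicksonPSL2.projHom_surjective x
  rw [DicksonPSL2.projHom_apply] at hx
  have ht := DicksonPSL2.tr_of_pow_five (g := g) (by rw [← hx, pow_orderOf_eq_one])
    (fun e => by rw [e, orderOf_one] at hx; norm_num at hx)
  obtain ⟨P⟩ := DicksonPSL2.exists_quatPair hodd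
  obtain ⟨φ, hφ⟩ : ∃ φ : F, φ * φ = φ + 1 := by
    have hprod : (SL2Tori.tr g * SL2Tori.tr g - SL2Tori.tr g - 1) *
        (-SL2Tori.tr g * -SL2Tori.tr g - -SL2Tori.tr g - 1) = 0 := by
      linear_combination ht
    rcases mul_eq_zero.1 hprod with e | e
    · exact ⟨SL2Tori.tr g, by linear_combination e⟩
    · exact ⟨-SL2Tori.tr g, by linear_combination e⟩
  exact ⟨P.ico φ hφ, (P.card_ico φ hφ).1⟩

/-- `4` divides the order of `PSL(2, F)` for odd `|F|`. -/
theorem four_dvd_card_PSL (F : Type) [Field F] [Fintype F] (hodd : Odd (Fintype.card F)) :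
    4 ∣ Nat.card PSL(2, F) := by
  have h := DicksonPSL2.two_mul_card_PSL hodd
  obtain ⟨c, hc⟩ := hodd
  obtain ⟨d, hd⟩ := Nat.even_mul_succ_self c
  refine ⟨(2 * c + 1) * d, ?_⟩
  rw [hc, show 2 * c + 1 - 1 = 2 * c by omega] at h
  have e : (2 * c + 1) * (2 * c) * (2 * c + 1 + 1) = 4 * (2 * c + 1) * (c * (c + 1)) := by ring
  rw [e, hd] at h
  have e2 : 4 * (2 * c + 1) * (d + d) = 2 * (4 * ((2 * c + 1) * d)) := by ring
  omega

variable {G : Type u} [Group G] [Finite G]

/-- A subgroup of order sixty of `G / O(G)` gives one of `G`. -/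
theorem hasOrder_sixty_of_quotient {n : ℕ} (hG : Nat.card G = 60 * n) (hc : Nat.Coprime 60 n)
    (h : HasOrder (G ⧸ Cfsg.oddCore G) 60) : HasOrder G 60 := by
  obtain ⟨A, hA⟩ := h
  set O := Cfsg.oddCore G
  haveI : O.Normal := inferInstance
  set H := A.comap (QuotientGroup.mk' O) with hHdef
  have hOH : O ≤ H := fun x hx => by
    rw [hHdef, mem_comap, QuotientGroup.mk'_apply, (QuotientGroup.eq_one_iff x).2 hx]
    exact one_mem A
  have hcard : Nat.card H = 60 * Nat.card O := by
    rw [hHdef, ← hA, mul_comm]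
    exact (Nat.card_congr
      (QuotientGroup.preimageMkEquivSubgroupProdSet O (A : Set (G ⧸ O)))).trans (Nat.card_prod _ _)
  have hn : Nat.card O ∣ n := by
    have h1 := H.card_subgroup_dvd_card
    rw [hcard, hG] at h1
    exact (Nat.mul_dvd_mul_iff_left (by norm_num : 0 < 60)).1 h1
  have hO : Nat.card (O.subgroupOf H) = Nat.card O :=
    Nat.card_congr (subgroupOfEquivOfLe hOH).toEquiv
  have hidx : (O.subgroupOf H).index = 60 := by
    have h1 := (O.subgroupOf H).card_mul_index
    rw [hO, hcard, mul_comm 60] at h1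
    exact Nat.eq_of_mul_eq_mul_left Nat.card_pos h1
  obtain ⟨K, hK⟩ := exists_right_complement'_of_coprime (N := O.subgroupOf H)
    (by rw [hO, hidx]; exact (hc.coprime_dvd_right hn).symm)
  refine ⟨K.map H.subtype, ?_⟩
  rw [card_map_of_injective H.subtype_injective, ← hK.symm.index_eq_card, hidx]

/-- `m = 60`, given Gorenstein–Walter. -/
theorem hasOrder_sixty (hGW : ∀ m, GW.SimpleHyp.{u} m) (hd : 60 ∣ Nat.card G)
    (hc : Nat.Coprime 60 (Nat.card G / 60)) : HasOrder G 60 := by
  haveI : Fact (Nat.Prime 2) := ⟨Nat.prime_two⟩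
  by_cases hsol : Group.IsSolvable G
  · exact hasOrder_of_solvable hsol hd hc
  have hG : Nat.card G = 60 * (Nat.card G / 60) := (Nat.mul_div_cancel' hd).symm
  have h8 : ¬ 8 ∣ Nat.card G := fun h => by
    rw [hG] at h
    have h1 : Nat.Coprime 8 (Nat.card G / 60) := by
      have : Nat.Coprime 2 (Nat.card G / 60) := hc.coprime_dvd_left (by norm_num)
      simpa using this.pow_left 3
    exact absurd (h1.dvd_of_dvd_mul_right h) (by norm_num)
  obtain ⟨S⟩ : Nonempty (Sylow 2 G) := inferInstance
  have hS : Nat.card (S : Subgroup G) = 4 := by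
    rw [S.card_eq_multiplicity]
    have h1 : 2 ≤ (Nat.card G).factorization 2 :=
      (Nat.Prime.pow_dvd_iff_le_factorization Nat.prime_two Nat.card_pos.ne').1
        (dvd_trans (by norm_num) hd)
    have h2 : ¬ 3 ≤ (Nat.card G).factorization 2 := fun h =>
      h8 ((Nat.Prime.pow_dvd_iff_le_factorization Nat.prime_two Nat.card_pos.ne').2 h)
    rw [show (Nat.card G).factorization 2 = 2 by omega]
    rfl
  have hncyc : ¬ IsCyclic (S : Subgroup G) := fun h => hsol (isSolvable_of_cyclic S h)
  haveI : IsKleinFour (S : Subgroup G) :=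
    ⟨hS, (not_isCyclic_iff_exponent_eq_prime Nat.prime_two (by rw [hS]; rfl)).1 hncyc⟩
  obtain ⟨e⟩ := IsKleinFour.nonempty_mulEquiv (G₁ := (S : Subgroup G)) (G₂ := DihedralGroup 2)
  have hDG : GW.DihType G := GW.dihType_of_sylow S e
  set O := Cfsg.oddCore G
  haveI : O.Normal := inferInstance
  have hOodd : Odd (Nat.card O) := CfsgLib.Inv54.odd_card_oddCore
  have hDQ := hDG.quotient O (Nat.coprime_two_right.2 hOodd)
  have hKC := GW.knownCore_of_simpleHyp hDQ
    (CfsgLib.PLocal.pPrimeCore_quotient_pPrimeCore_eq_bot 2 G) (hGW _)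
  have hcardQ : Nat.card G = Nat.card (G ⧸ O) * Nat.card O :=
    card_eq_card_quotient_mul_card_subgroup O
  have hQG : Nat.card (G ⧸ O) ∣ Nat.card G := ⟨_, hcardQ⟩
  have h4Q : 4 ∣ Nat.card (G ⧸ O) := by
    refine Nat.Coprime.dvd_of_dvd_mul_right ?_ (hcardQ ▸ (dvd_trans (by norm_num) hd : 4 ∣ Nat.card G))
    simpa using (Nat.coprime_two_left.2 hOodd).pow_left 2
  obtain ⟨P⟩ : Nonempty (Sylow 2 (G ⧸ O)) := inferInstance
  have hP : Nat.card (P : Subgroup (G ⧸ O)) = 4 := by
    rw [P.card_eq_multiplicity]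
    have h1 : 2 ≤ (Nat.card (G ⧸ O)).factorization 2 :=
      (Nat.Prime.pow_dvd_iff_le_factorization Nat.prime_two Nat.card_pos.ne').1 h4Q
    have h2 : ¬ 3 ≤ (Nat.card (G ⧸ O)).factorization 2 := fun h =>
      h8 (((Nat.Prime.pow_dvd_iff_le_factorization Nat.prime_two Nat.card_pos.ne').2 h).trans hQG)
    rw [show (Nat.card (G ⧸ O)).factorization 2 = 2 by omega]
    rfl
  set K := normalizer ((P : Subgroup (G ⧸ O)) : Set (G ⧸ O)) with hKdef
  have hQsol : ¬ Group.IsSolvable (G ⧸ O) := fun h =>
    hsol (AGroups.isSolvable_of_normal O (Cfsg.Agent.S0205.result hOodd) h)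
  -- `3` divides the order of the normalizer
  have h3K : 3 ∣ Nat.card K := by
    by_contra h3
    refine hQsol (isSolvable_of_complement
      (Transfer.hasNormalPComplement_of_local P fun Q hQ g hg ho => ?_))
    by_contra hgc
    have hQ4 : Nat.card Q ∣ 4 := hP ▸ card_dvd_of_le hQ
    rcases bad_pair (hQ4.trans (by norm_num)) hg ho hgc with ⟨hh, h4⟩ | ⟨e, -⟩
    · have : Q = (P : Subgroup (G ⧸ O)) :=
        eq_of_le_of_card_ge hQ (hP.trans_le (Nat.le_of_dvd Nat.card_pos h4))
      subst this
      exact h3 hh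
    · rw [e] at hQ4
      exact absurd (Nat.le_of_dvd (by norm_num) hQ4) (by norm_num)
  by_cases h5 : 5 ∣ K.index
  · refine hasOrder_sixty_of_quotient hG hc ?_
    have h5Q : 5 ∣ Nat.card (G ⧸ O) := h5.trans K.index_dvd_card
    rcases hKC with h | ⟨⟨f⟩⟩ | ⟨⟨f⟩⟩ | ⟨L, hL, hLtype, -⟩
    · obtain ⟨k, hk⟩ := IsPGroup.iff_card.1 h
      exact absurd ((by norm_num : Nat.Prime 5).dvd_of_dvd_pow (hk ▸ h5Q)) (by norm_num)
    · rw [Nat.card_congr f.toEquiv, nat_card_alternatingGroup, Nat.card_fin] at h5Q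
      exact absurd h5Q (by decide)
    · rw [Nat.card_congr f.toEquiv, Nat.card_perm, Nat.card_fin] at h5Q
      exact absurd h5Q (by decide)
    · haveI := hL
      have hLd : Nat.card L ∣ Nat.card (G ⧸ O) := L.card_subgroup_dvd_card
      rcases hLtype with ⟨F, iF, iF', hodd, -, ⟨f⟩⟩ | ⟨⟨f⟩⟩
      · have h4L : 4 ∣ Nat.card L := by
          rw [Nat.card_congr f.toEquiv]; exact four_dvd_card_PSL F hodd
        have hodd' : ¬ 2 ∣ L.index := fun h => h8 (by
          refine dvd_trans ?_ hQG
          rw [← L.card_mul_index]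
          exact dvd_trans (by norm_num) (Nat.mul_dvd_mul h4L h))
        have hPL : (P : Subgroup (G ⧸ O)) ≤ L := by
          rw [← relIndex_eq_one]
          have h1 : L.relIndex (P : Subgroup (G ⧸ O)) ∣ L.index := relIndex_dvd_index_of_normal L _
          have h2 : L.relIndex (P : Subgroup (G ⧸ O)) ∣ 2 ^ 2 := by
            have := relIndex_dvd_card L (P : Subgroup (G ⧸ O))
            rwa [hP] at this
          exact Nat.eq_one_of_dvd_coprimes
            (((Nat.Prime.coprime_iff_not_dvd Nat.prime_two).2 hodd').pow_left 2) h2 h1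
        have hfr : K ⊔ L = ⊤ := Sylow.normalizer_sup_eq_top' P hPL
        have h5L : 5 ∣ Nat.card L := by
          refine h5.trans ?_
          have h1 := CfsgLib.SelfCentralizing.card_sup_dvd_mul L K
          rw [sup_comm, hfr, card_top, ← K.card_mul_index, mul_comm (Nat.card L)] at h1
          exact (Nat.mul_dvd_mul_iff_left Nat.card_pos).1 h1
        rw [Nat.card_congr f.toEquiv] at h5L
        obtain ⟨A, hA⟩ := exists_sixty_PSL F hodd h5L
        exact ⟨(A.map f.symm.toMonoidHom).map L.subtype, by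
          rw [card_map_of_injective L.subtype_injective, card_map_of_injective f.symm.injective, hA]⟩
      · refine absurd ((?_ : 8 ∣ Nat.card L).trans (hLd.trans hQG)) h8
        rw [Nat.card_congr f.toEquiv, nat_card_alternatingGroup, Nat.card_fin]
        decide
  -- the normalizer's preimage is solvable
  set H := K.comap (QuotientGroup.mk' O) with hHdef
  have hOH : O ≤ H := fun x hx => by
    rw [hHdef, mem_comap, QuotientGroup.mk'_apply, (QuotientGroup.eq_one_iff x).2 hx]
    exact one_mem K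
  have hKsol : Group.IsSolvable K := by
    refine AGroups.isSolvable_of_normal ((P : Subgroup (G ⧸ O)).subgroupOf K) ?_ ?_
    · have : IsPGroup 2 ((P : Subgroup (G ⧸ O)).subgroupOf K) := P.isPGroup'.comap_subtype
      haveI := this.isNilpotent
      infer_instance
    · refine isSolvable_of_not_four_dvd fun h => h8 ?_
      have h1 : 4 * 4 ∣ Nat.card K := by
        rw [card_eq_card_quotient_mul_card_subgroup ((P : Subgroup (G ⧸ O)).subgroupOf K),
          Nat.card_congr (subgroupOfEquivOfLe le_normalizer).toEquiv, hP]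
        exact mul_dvd_mul_right h 4
      exact dvd_trans (by norm_num) (h1.trans (K.card_subgroup_dvd_card.trans hQG))
  have hcardH : Nat.card H = Nat.card O * Nat.card K := by
    exact (Nat.card_congr
      (QuotientGroup.preimageMkEquivSubgroupProdSet O (K : Set (G ⧸ O)))).trans (Nat.card_prod _ _)
  have hHsol : Group.IsSolvable H := by
    refine AGroups.isSolvable_of_normal (O.subgroupOf H) ?_ ?_
    · haveI := Cfsg.Agent.S0205.result hOodd
      exact Group.isSolvable_of_isSolvable_injective (f := (subgroupOfEquivOfLe hOH).toMonoidHom) (subgroupOfEquivOfLe hOH).injective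
    · let f : H →* K := ((QuotientGroup.mk' O).comp H.subtype).codRestrict K fun x => x.2
      haveI := hKsol
      have hf : f.ker = O.subgroupOf H := by
        ext x
        rw [MonoidHom.mem_ker, mem_subgroupOf, ← QuotientGroup.eq_one_iff, Subtype.ext_iff]
        rfl
      exact Group.isSolvable_of_isSolvable_injective
        (f := QuotientGroup.lift (O.subgroupOf H) f hf.ge)
        ((injective_iff_map_eq_one _).2 fun z => by
          obtain ⟨x, rfl⟩ := QuotientGroup.mk'_surjective (O.subgroupOf H) z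
          intro hz
          rw [QuotientGroup.mk'_apply, QuotientGroup.eq_one_iff, ← hf]
          exact hz)
  refine hasOrder_of_subgroup hHsol (by norm_num) ?_ hc
  have h4H : 4 ∣ Nat.card H :=
    hcardH ▸ dvd_mul_of_dvd_right (hP ▸ card_dvd_of_le le_normalizer) _
  have h3H : 3 ∣ Nat.card H := hcardH ▸ dvd_mul_of_dvd_right h3K _
  have h5H : 5 ∣ Nat.card H := by
    have h1 : H.index = K.index := index_comap_of_surjective _ (QuotientGroup.mk'_surjective O)
    have h2 : 5 ∣ Nat.card H * H.index := by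
      rw [H.card_mul_index]; exact dvd_trans (by norm_num) hd
    exact ((Nat.Prime.dvd_mul (by norm_num)).1 h2).resolve_right (h1 ▸ h5)
  exact Nat.Coprime.mul_dvd_of_dvd_of_dvd (by norm_num : Nat.Coprime (4 * 3) 5)
    (Nat.Coprime.mul_dvd_of_dvd_of_dvd (by norm_num : Nat.Coprime 4 3) h4H h3H) h5H

end CfsgLib.HallNumbers
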